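import Groth.Agent.DRing.BCCmp.Rel
import Groth.Agent.DRing.TorIndep
import Groth.Agent.DRing.ConeTensor
import Groth.Agent.DRing.SingleTensor
import Groth.Agent.DRing.Trunc
import Groth.Agent.CAlgLib.TorBalance

/-!
# Extension of scalars of a resolution of the restriction of a K-projective complex
-/

universe u
attribute [local instance] HasDerivedCategory.standard
open CategoryTheory CategoryTheory.Limits MonoidalCategory DerivedCategory CochainComplex HomComplex
open scoped TensorProduct

namespace Groth.Agent.DRing.BCCmp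

open TorIndep LocCoh.Tor

variable {R : Type u} [CommRing R]

theorem ind_of_iso {N M M' : ModuleCat.{u} R} (e : M ≅ M') (h : Ind N M) : Ind N M' := fun n x => by
  let i := ((CategoryTheory.Tor (ModuleCat.{u} R) (n + 1)).mapIso e).app N
  exact i.toLinearEquiv.symm.injective ((h n _).trans (map_zero _).symm)

theorem ind_flip {N M : ModuleCat.{u} R} (h : Ind N M) : Ind M N := fun n x => by
  let i : T (n + 1) N M ≅ T (n + 1) M N := ((CAlgLib.TorBalance.torFlipIso R (n + 1)).app N).app M
  exact i.toLinearEquiv.injective ((h n _).trans (map_zero _).symm)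

variable {A : Type u} [CommRing A] [Algebra R A] (R' : Type u) [CommRing R'] [Algebra R R']

/-- `R'` as an `R`-module. -/
noncomputable abbrev baseMod : ModuleCat.{u} R :=
  (ModuleCat.restrictScalars (algebraMap R R')).obj (ModuleCat.of R' R')

/-- Free `A`-modules are tor-independent with `R'`. -/
theorem ind_free (htor : ∀ p : ℕ, 0 < p → Subsingleton (DRing.Tor R p A R')) (S : Type u) :
    Ind (baseMod (R := R) R') ((ModuleCat.restrictScalars (algebraMap R A)).obj ((ModuleCat.free A).obj S)) := by
  let M : Type u := (ModuleCat.free A).obj S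
  letI : Module R M := Module.compHom M (algebraMap R A)
  haveI : IsScalarTower R A M := IsScalarTower.of_algebraMap_smul fun _ _ => rfl
  haveI : Module.Projective A M := Module.Projective.of_basis
    (Finsupp.basisSingleOne : Module.Basis S A (S →₀ A))
  exact ind_restrict_of_flat (ind_of_tor (R := R) (A := A) (R' := R') htor) M

theorem ind_cone {L N0 : ModuleCat.{u} R} (hL : Ind L N0) {F : DRing.Cx R} (ε : F ⟶ SingleTensor.S0 N0)
    (hF : ∀ i, Module.Flat R (F.X i)) (i : ℤ) : Ind L ((mappingCone ε).X i) := by
  let S' := ShortComplex.mk ((mappingCone.inr ε).f i) ((mappingCone.fst ε).1.v i (i + 1) rfl)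
    (mappingCone.inr_f_fst_v ε i (i + 1) rfl)
  have hS' : S'.ShortExact := (ShortComplex.Splitting.mk ((mappingCone.snd ε).v i i (add_zero i))
    ((mappingCone.inl ε).v (i + 1) i (by omega)) (mappingCone.inr_f_snd_v ε i)
    (mappingCone.inl_v_fst_v ε (i + 1) i rfl)
    ((add_comm _ _).trans (mappingCone.id_X ε i (i + 1) rfl))).shortExact
  refine @ind_middle R _ L S' hS' ?_ ?_
  · by_cases hi : i = 0
    · subst hi
      exact ind_of_iso (HomologicalComplex.singleObjXSelf (ComplexShape.up ℤ) 0 N0).symm hL
    · haveI := ModuleCat.subsingleton_of_isZero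
        (HomologicalComplex.isZero_single_obj_X (ComplexShape.up ℤ) 0 N0 i hi)
      exact @ind_of_flat R _ L ((SingleTensor.S0 N0).X i) inferInstance
  · haveI := hF (i + 1)
    exact ind_of_flat (F.X (i + 1))

theorem exact_rTensor {L : ModuleCat.{u} R} {C : DRing.Cx R} (hC : ∀ i, C.ExactAt i) {b : ℤ}
    (hb : ∀ i, b < i → IsZero (C.X i)) (h : ∀ i, Ind L (C.X i)) (p : ℤ) :
    Function.Exact ((C.d p (p + 1)).hom.rTensor L) ((C.d (p + 1) (p + 1 + 1)).hom.rTensor L) := by
  have ex := exact_lTensor (N := L) (C := C) hC hb h p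
  intro z
  obtain ⟨z, rfl⟩ := (TensorProduct.comm R L (C.X (p + 1))).surjective z
  have sq : ∀ (a b : ℤ) (w : L ⊗[R] C.X a), (C.d a b).hom.rTensor L (TensorProduct.comm R L (C.X a) w) =
      TensorProduct.comm R L (C.X b) ((C.d a b).hom.lTensor L w) := fun a b w => by
    induction w using TensorProduct.induction_on with
    | zero => simp
    | tmul x y => simp
    | add x y hx hy => simp only [map_add, hx, hy]
  rw [sq, LinearEquiv.map_eq_zero_iff, ex z]
  constructor
  · rintro ⟨w, rfl⟩; exact ⟨TensorProduct.comm R L _ w, sq _ _ w⟩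
  · rintro ⟨v, hv⟩
    obtain ⟨w, rfl⟩ := (TensorProduct.comm R L (C.X p)).surjective v
    exact ⟨w, (TensorProduct.comm R L (C.X (p + 1))).injective ((sq _ _ w).symm.trans hv)⟩

/-- Extension of scalars along `R → R'` sends a K-projective resolution of the restriction of a
K-projective `A`-complex to a quasi-isomorphism. -/
theorem quasiIso_extend (htor : ∀ p : ℕ, 0 < p → Subsingleton (DRing.Tor R p A R'))
    (X : DRing.Cx A) [X.IsKProjective] {P : DRing.Cx R} [P.IsKProjective]
    (π : P ⟶ (DRing.restrictCx (algebraMap R A)).obj X) [QuasiIso π] :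
    QuasiIso ((LTensor.extCx (algebraMap R R')).map π) := by
  let N0 := baseMod (R := R) R'
  have hz : ∀ i, i ≠ 0 → IsZero ((SingleTensor.S0 N0).X i) :=
    fun i hi => HomologicalComplex.isZero_single_obj_X _ _ _ _ hi
  obtain ⟨F, ε, hFb, hFp, hε⟩ := Trunc.exists_projRes (SingleTensor.S0 N0) 0 fun i hi =>
    HomologicalComplex.exactAt_iff_isZero_homology _ _ |>.2
      (ShortComplex.isZero_homology_of_isZero_X₂ _ (hz i (by omega)))
  haveI := hε
  have hFk : KFlat.IsKFlat F := KFlat.isKFlat_of_boundedAbove_flat _ 0 hFb fun i => by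
    haveI := hFp i; infer_instance
  let Cn := mappingCone ε
  have hCn : Cn.Acyclic := (Groth.Agent.LocCoh.RGamma.quasiIso_iff_cone_acyclic ε).1 hε
  have hfree : ∀ (S : Type u) (p : ℤ), Function.Exact
      ((Cn.d p (p + 1)).hom.rTensor ((ModuleCat.restrictScalars (algebraMap R A)).obj ((ModuleCat.free A).obj S)))
      ((Cn.d (p + 1) (p + 1 + 1)).hom.rTensor
        ((ModuleCat.restrictScalars (algebraMap R A)).obj ((ModuleCat.free A).obj S))) := by
    intro S p
    exact exact_rTensor (fun i => hCn i) (b := 0)
      (fun i hi => (mappingCone.isZero_X_iff ε i).2 ⟨hFb _ (by omega), hz i (by omega)⟩)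
      (ind_cone (ind_flip (ind_free R' htor S)) ε fun i => by haveI := hFp i; infer_instance) p
  let Y := (DRing.restrictCx (algebraMap R A)).obj X
  have hY : QuasiIso (ε ▷ Y) := by
    rw [Groth.Agent.LocCoh.RGamma.quasiIso_iff_cone_acyclic]
    intro i
    rw [HomologicalComplex.exactAt_iff_isZero_homology]
    exact (good_restrict (C := Cn) (algebraMap R A) hfree X i).of_iso
      ((HomologicalComplex.homologyFunctor _ _ i).mapIso (ConeTensor.iso ε Y)).symm
  have hP : QuasiIso (ε ▷ P) := KFlat.quasiIso_whiskerRight (KFlat.isKFlat_of_isKProjective P) ε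
  have hF : QuasiIso (F ◁ π) := KFlat.quasiIso_whiskerLeft hFk π
  have hS0 : QuasiIso (SingleTensor.S0 N0 ◁ π) := by
    have : QuasiIso (ε ▷ P ≫ SingleTensor.S0 N0 ◁ π) := by
      rw [← whisker_exchange]; infer_instance
    exact quasiIso_of_comp_left (ε ▷ P) _
  have h : QuasiIso (((tensorRight N0).mapHomologicalComplex (ComplexShape.up ℤ)).map π) := by
    have : QuasiIso (((tensorRight N0).mapHomologicalComplex (ComplexShape.up ℤ)).map π ≫
        (SingleTensor.iso N0 Y).hom) := by rw [SingleTensor.iso_natural]; infer_instance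
    exact quasiIso_of_comp_right _ (SingleTensor.iso N0 Y).hom
  let e := NatIso.mapHomologicalComplex (SingleTensor.restrictExtendIso (algebraMap R R')) (ComplexShape.up ℤ)
  have : QuasiIso (((ModuleCat.extendScalars.{u, u, u} (algebraMap R R') ⋙
      ModuleCat.restrictScalars (algebraMap R R')).mapHomologicalComplex (ComplexShape.up ℤ)).map π ≫
        e.hom.app Y) := by
    rw [e.hom.naturality π]; infer_instance
  have h2 := quasiIso_of_comp_right (((ModuleCat.extendScalars.{u, u, u} (algebraMap R R') ⋙
      ModuleCat.restrictScalars (algebraMap R R')).mapHomologicalComplex (ComplexShape.up ℤ)).map π) (e.hom.app Y)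
  exact (HomologicalComplex.quasiIso_map_iff_of_preservesHomology
    (((ModuleCat.extendScalars.{u, u, u} (algebraMap R R')).mapHomologicalComplex (ComplexShape.up ℤ)).map π)
    (ModuleCat.restrictScalars (algebraMap R R'))).1 h2

end Groth.Agent.DRing.BCCmp
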