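import Groth.Agent.DRing.BCCmp.Universal
import Groth.Agent.DRing.RelPCLoc
import Groth.Prelude.Def_TrivBC

/-!
# The comparison map of derived base change on a K-projective complex
-/

universe u
attribute [local instance] HasDerivedCategory.standard
open CategoryTheory CategoryTheory.Limits DerivedCategory

namespace Groth.Agent.DRing.BCCmp

section

variable {B C E : Type u} [CommRing B] [CommRing C] [CommRing E] (g : C →+* E) (f : B →+* C)

lemma liftingRes₂_hom_app (X : DRing.Cx E) :
    (TrivBC.liftingRes₂ g f).iso.hom.app X =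
      (DRing.restrictD f).map (fac g X).hom ≫ (fac f ((DRing.restrictCx g).obj X)).hom := by
  delta TrivBC.liftingRes₂
  simp [Localization.Lifting.iso]
  rfl

lemma liftingRes₂_inv_app (X : DRing.Cx E) :
    (TrivBC.liftingRes₂ g f).iso.inv.app X =
      (fac f ((DRing.restrictCx g).obj X)).inv ≫ (DRing.restrictD f).map (fac g X).inv := by
  delta TrivBC.liftingRes₂
  simp [Localization.Lifting.iso]
  rfl

end

variable {R A R' A' : Type u} [CommRing R] [CommRing A] [CommRing R'] [CommRing A']
  {φ : R →+* A} {ρ : R →+* R'} {α : A →+* A'} {φ' : R' →+* A'} (h : α.comp φ = φ'.comp ρ)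

/-- The termwise identification of the two restrictions. -/
noncomputable def commCx (X : DRing.Cx A') :
    (DRing.restrictCx φ).obj ((DRing.restrictCx α).obj X) ⟶
      (DRing.restrictCx ρ).obj ((DRing.restrictCx φ').obj X) :=
  (Functor.mapHomologicalComplexCompIso (TrivBC.resCommMod h) (ComplexShape.up ℤ) ≪≫
    (Functor.mapHomologicalComplexCompIso
      (Iso.refl (ModuleCat.restrictScalars.{u} φ' ⋙ ModuleCat.restrictScalars.{u} ρ))
      (ComplexShape.up ℤ)).symm).hom.app X

lemma resComm_app (X : DRing.Cx A') :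
    (TrivBC.resComm h).hom.app (DRing.toD X) =
      ((DRing.restrictD φ).map (fac α X).hom ≫ (fac φ ((DRing.restrictCx α).obj X)).hom) ≫
        Q.map (commCx h X) ≫
        (fac ρ ((DRing.restrictCx φ').obj X)).inv ≫ (DRing.restrictD ρ).map (fac φ' X).inv := by
  have h1 := liftingRes₂_hom_app α φ X
  have h2 := liftingRes₂_inv_app φ' ρ X
  letI := TrivBC.liftingRes₂ α φ
  letI := TrivBC.liftingRes₂ φ' ρ
  refine (Localization.liftNatTrans_app (DerivedCategory.Q (C := ModuleCat.{u} A'))
    (HomologicalComplex.quasiIso (ModuleCat.{u} A') (ComplexShape.up ℤ)) _ _ _ _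
    (TrivBC.resCommCx h).hom X).trans ?_
  erw [h1, h2]
  simp [TrivBC.resCommCx, commCx]
  erw [← Functor.map_comp_assoc]
  exact Category.assoc _ _ _

variable [DRing.HasLBaseChange ρ] [DRing.HasLBaseChange α]
  (adjρ : DRing.LBaseChange ρ ⊣ DRing.restrictD ρ) (adjα : DRing.LBaseChange α ⊣ DRing.restrictD α)

lemma cmp_natural {K L : Dual.D A} (e : K ⟶ L) :
    (DRing.LBaseChange ρ).map ((DRing.restrictD φ).map e) ≫ TrivBC.cmp adjρ adjα h L =
      TrivBC.cmp adjρ adjα h K ≫ (DRing.restrictD φ').map ((DRing.LBaseChange α).map e) := by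
  unfold TrivBC.cmp
  rw [← Adjunction.homEquiv_naturality_left_symm, ← Adjunction.homEquiv_naturality_right_symm]
  refine congrArg _ ?_
  rw [← Category.assoc, ← Functor.map_comp, show e ≫ adjα.unit.app L = _ from adjα.unit.naturality e,
    Functor.map_comp, Category.assoc, Category.assoc]
  exact congrArg ((DRing.restrictD φ).map (adjα.unit.app K) ≫ ·)
    ((TrivBC.resComm h).hom.naturality ((DRing.LBaseChange α).map e))

lemma isIso_cmp_of_iso {K L : Dual.D A} (e : K ≅ L) (hK : IsIso (TrivBC.cmp adjρ adjα h K)) :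
    IsIso (TrivBC.cmp adjρ adjα h L) := by
  have := hK
  have : IsIso ((DRing.LBaseChange ρ).map ((DRing.restrictD φ).map e.hom) ≫
      TrivBC.cmp adjρ adjα h L) := by
    rw [cmp_natural h adjρ adjα e.hom]; infer_instance
  exact IsIso.of_isIso_comp_left ((DRing.LBaseChange ρ).map ((DRing.restrictD φ).map e.hom)) _

/-- The square map `(P ⊗ R') ⟶ (X ⊗ A')|_{R'}` induced by `π : P ⟶ X|_R`. -/
noncomputable def extMap (hb : ∀ M, Function.Bijective
      (RelPC.sqHom φ ρ α φ' (fun x => (RingHom.congr_fun h x).symm) M).hom)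
    {X : DRing.Cx A} {P : DRing.Cx R} (π : P ⟶ (DRing.restrictCx φ).obj X) :
    (LTensor.extCx ρ).obj P ⟶ (DRing.restrictCx φ').obj ((LTensor.extCx α).obj X) :=
  (LTensor.extCx ρ).map π ≫
    (NatIso.mapHomologicalComplex (RelPC.sqIso φ ρ α φ' (fun x => (RingHom.congr_fun h x).symm) hb)
      (ComplexShape.up ℤ)).hom.app X

lemma unitCx_extMap (hb : ∀ M, Function.Bijective
      (RelPC.sqHom φ ρ α φ' (fun x => (RingHom.congr_fun h x).symm) M).hom)
    {X : DRing.Cx A} {P : DRing.Cx R} (π : P ⟶ (DRing.restrictCx φ).obj X) :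
    unitCx ρ P ≫ (DRing.restrictCx ρ).map (extMap h hb π) =
      π ≫ (DRing.restrictCx φ).map (unitCx α X) ≫ commCx h _ := by
  ext n x
  let := ρ.toAlgebra
  let := α.toAlgebra
  refine (RelPC.sqHom_tmul φ ρ α φ' (fun x => (RingHom.congr_fun h x).symm) (X.X n) 1 ((π.f n).hom x)).trans ?_
  rw [map_one]
  rfl

theorem isIso_cmp_of_quasiIso (hb : ∀ M, Function.Bijective
      (RelPC.sqHom φ ρ α φ' (fun x => (RingHom.congr_fun h x).symm) M).hom)
    {X : DRing.Cx A} [X.IsKProjective] {P : DRing.Cx R} [P.IsKProjective]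
    (π : P ⟶ (DRing.restrictCx φ).obj X) [QuasiIso π] (hq : QuasiIso ((LTensor.extCx ρ).map π)) :
    IsIso (TrivBC.cmp adjρ adjα h (DRing.toD X)) := by
  let θρ := (adjρ.homEquiv _ _).symm (unitD ρ P)
  let θα := (adjα.homEquiv _ _).symm (unitD α X)
  have : IsIso θρ := isIso_symm_of_universal adjρ _ (bijective_unitD ρ P)
  have : IsIso θα := isIso_symm_of_universal adjα _ (bijective_unitD α X)
  have hα : adjα.unit.app _ ≫ (DRing.restrictD α).map θα = unitD α X :=
    (adjα.homEquiv_unit _ _ θα).symm.trans (Equiv.apply_symm_apply _ _)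
  let w := extMap h hb π
  let p : DRing.toD P ≅ (DRing.restrictD φ).obj (DRing.toD X) := asIso (Q.map π) ≪≫ (fac φ X).symm
  have main : (DRing.LBaseChange ρ).map p.hom ≫ TrivBC.cmp adjρ adjα h (DRing.toD X) ≫
      (DRing.restrictD φ').map θα ≫ (fac φ' _).hom = θρ ≫ Q.map w := by
    apply (adjρ.homEquiv _ _).injective
    rw [Adjunction.homEquiv_naturality_left, Adjunction.homEquiv_naturality_right,
      Adjunction.homEquiv_naturality_right]
    simp only [θρ, TrivBC.cmp, Equiv.apply_symm_apply, Functor.map_comp, Category.assoc]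
    rw [unitD_comp]
    rw [show unitCx ρ P ≫ (DRing.restrictCx ρ).map w = _ from unitCx_extMap h hb π]
    have e1 := (TrivBC.resComm h).hom.naturality θα
    dsimp at e1
    rw [← reassoc_of% e1, ← reassoc_of% (DRing.restrictD φ).map_comp, hα, resComm_app]
    simp only [Category.assoc, p, Iso.trans_hom, asIso_hom, Iso.symm_hom, unitD, Functor.map_comp]
    simp only [← Functor.map_comp_assoc, ← Functor.map_comp, Iso.inv_hom_id, CategoryTheory.Functor.map_id, Category.id_comp, Category.comp_id]
    simp only [Functor.map_comp, Category.assoc]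
    rw [fac_hom_natural_assoc φ (unitCx α X), Iso.inv_hom_id_assoc]
  have : QuasiIso w := by
    have := hq
    have : IsIso ((NatIso.mapHomologicalComplex (RelPC.sqIso φ ρ α φ' (fun x => (RingHom.congr_fun h x).symm) hb)
      (ComplexShape.up ℤ)).hom.app X) := Iso.isIso_hom
        ((NatIso.mapHomologicalComplex (RelPC.sqIso φ ρ α φ' (fun x => (RingHom.congr_fun h x).symm) hb) (ComplexShape.up ℤ)).app X)
    have : QuasiIso ((NatIso.mapHomologicalComplex (RelPC.sqIso φ ρ α φ' (fun x => (RingHom.congr_fun h x).symm) hb)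
      (ComplexShape.up ℤ)).hom.app X) := @quasiIso_of_isIso _ _ _ _ _ _ _ _ this _ _
    exact quasiIso_comp ((LTensor.extCx ρ).map π) _ (hφ := hq) (hφ' := this)
  have : IsIso ((DRing.LBaseChange ρ).map p.hom ≫ TrivBC.cmp adjρ adjα h (DRing.toD X) ≫
      (DRing.restrictD φ').map θα ≫ (fac φ' _).hom) := by
    rw [main]; infer_instance
  have h2 := IsIso.of_isIso_comp_left ((DRing.LBaseChange ρ).map p.hom)
    (TrivBC.cmp adjρ adjα h (DRing.toD X) ≫ (DRing.restrictD φ').map θα ≫ (fac φ' _).hom)
  exact IsIso.of_isIso_comp_right (TrivBC.cmp adjρ adjα h (DRing.toD X))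
    ((DRing.restrictD φ').map θα ≫ (fac φ' _).hom)

end Groth.Agent.DRing.BCCmp
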