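import Groth.Agent.DRing.KFlatRes
import Groth.Agent.DRing.KProjRes
import Mathlib.Algebra.Category.ModuleCat.ChangeOfRings

/-!
# K-flatness relative to one acyclic complex

`Good C Y` says that `C ⊗ Y` is acyclic.  It is stable under homotopy equivalences, cones and
sequential colimits; hence, for the restriction of a K-projective complex, it reduces to the
complexes of free modules with zero differential.
-/

universe u

open CategoryTheory CategoryTheory.Limits MonoidalCategory DirectSum

namespace Groth.Agent.DRing.BCCmp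

open Tensor Homology KFlat

variable {R : Type u} [CommRing R] (C : CochainComplex (ModuleCat.{u} R) ℤ)

/-- `C ⊗ Y` is acyclic. -/
def Good (Y : CochainComplex (ModuleCat.{u} R) ℤ) : Prop := ∀ i : ℤ, IsZero ((C ⊗ Y).homology i)

variable {C} {P Q : CochainComplex (ModuleCat.{u} R) ℤ}

lemma Good.of_homotopyEquiv (e : HomotopyEquiv P Q) (h : Good C P) : Good C Q :=
  fun i => (h i).of_iso ((whiskerLeftHomotopyEquiv C e).toHomologyIso i).symm

lemma Good.of_iso (e : P ≅ Q) (h : Good C P) : Good C Q :=
  h.of_homotopyEquiv (HomotopyEquiv.ofIso e)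

lemma Good.shift (h : Good C P) (a : ℤ) : Good C (P⟦a⟧) := fun i =>
  (h (i + a)).of_iso (((HomologicalComplex.homologyFunctor _ _ i).mapIso (shiftIso C P a)) ≪≫
    ((CochainComplex.ShiftSequence.shiftIso (ModuleCat.{u} R) a i (i + a) (add_comm _ _)).app _))

lemma good_mappingCone (φ : P ⟶ Q) (hP : Good C P) (hQ : Good C Q) :
    Good C (CochainComplex.mappingCone φ) := by
  let σ := CochainComplex.mappingCone.triangleRotateShortComplexSplitting φ
  have hS : (CochainComplex.mappingCone.triangleRotateShortComplex φ).ShortExact :=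
    HomologicalComplex.shortExact_of_degreewise_shortExact _ fun n => (σ n).shortExact
  intro i
  have hT := Tensor.shortExact_map (L := C) _ hS fun p q => pure_of_splitting σ (C.X p) q
  exact (hT.homology_exact₂ i).isZero_of_both_zeros ((hQ i).eq_of_src _ _)
    (((hP.shift 1) i).eq_of_tgt _ _)

lemma good_colimit (J : Type*) [Category J] [IsFiltered J]
    [HasColimitsOfShape J (ModuleCat.{u} R)] [PreservesColimitsOfShape J (forget (ModuleCat.{u} R))]
    (F : J ⥤ CochainComplex (ModuleCat.{u} R) ℤ) {c : Cocone F} (hc : IsColimit c)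
    (hF : ∀ j, Good C (F.obj j)) : Good C c.pt := by
  intro n
  have hcol := fun m => isColimitOfPreserves
    (HomologicalComplex.eval (ModuleCat.{u} R) (.up ℤ) m) (isColimitOfPreserves (TL C) hc)
  rw [← HomologicalComplex.exactAt_iff_isZero_homology, exactAt_iff_forall n (n - 1) (by omega)]
  intro z hz
  obtain ⟨j, y, rfl⟩ := Concrete.isColimit_exists_rep _ (hcol n) z
  have hy : ((C ◁ c.ι.app j).f (n + 1)).hom (((C ⊗ F.obj j).d n (n + 1)).hom y) = 0 :=
    (hom_d (C ◁ c.ι.app j) n (n + 1) y).symm.trans hz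
  obtain ⟨k, f, g, hfg⟩ := Concrete.isColimit_exists_of_rep_eq _ (hcol (n + 1))
    (((C ⊗ F.obj j).d n (n + 1)).hom y) (0 : (C ⊗ F.obj j).X (n + 1))
    (hy.trans (map_zero _).symm)
  have hcyc : IsCyc (C ⊗ F.obj k) n (((C ◁ F.map f).f n).hom y) :=
    (hom_d (C ◁ F.map f) n (n + 1) y).trans (hfg.trans (map_zero _))
  obtain ⟨w, hw⟩ := (exactAt_iff_forall n (n - 1) (by omega)).1
    ((HomologicalComplex.exactAt_iff_isZero_homology _ _).2 (hF k n)) _ hcyc
  refine ⟨((C ◁ c.ι.app k).f (n - 1)).hom w, ?_⟩
  have h1 : C ◁ F.map f ≫ C ◁ c.ι.app k = C ◁ c.ι.app j :=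
    (MonoidalCategory.whiskerLeft_comp _ _ _).symm.trans (congrArg (C ◁ ·) (c.w f))
  refine (hom_d (C ◁ c.ι.app k) (n - 1) n w).trans ((congrArg _ hw).trans ?_)
  exact congrArg (fun φ : C ⊗ F.obj j ⟶ C ⊗ c.pt => (φ.f n).hom y) h1

lemma good_of_d_eq_zero (hd : ∀ i j, P.d i j = 0)
    (hex : ∀ q p, Function.Exact ((C.d p (p + 1)).hom.rTensor (P.X q))
      ((C.d (p + 1) (p + 1 + 1)).hom.rTensor (P.X q))) : Good C P := by
  classical
  intro n
  rw [← HomologicalComplex.exactAt_iff_isZero_homology, exactAt_iff_forall n (n - 1) (by omega)]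
  intro z hz
  have hz' : dSum P C n (n + 1) rfl ((toSum C P n).hom z) = 0 := by
    have := congrArg (fun f => f.hom z) (d_toSum (L := C) hd n (n + 1) rfl)
    simp only [ModuleCat.hom_comp, LinearMap.comp_apply, ModuleCat.hom_ofHom] at this
    rw [← this]
    exact (congrArg (toSum C P (n + 1)).hom hz).trans (map_zero _)
  have hcomp : ∀ k, (C.d k.1.1 (k.1.1 + 1)).hom.rTensor (P.X k.1.2)
      (DirectSum.component R _ (Fam C P n) k ((toSum C P n).hom z)) = 0 := by
    intro k
    have e : (DirectSum.component R _ (Fam C P (n + 1))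
          ⟨(k.1.1 + 1, k.1.2), by have := k.2; omega⟩).comp (dSum P C n (n + 1) rfl) =
        ((C.d k.1.1 (k.1.1 + 1)).hom.rTensor (P.X k.1.2)).comp
          (DirectSum.component R _ (Fam C P n) k) := by
      refine DirectSum.linearMap_ext R fun k' => LinearMap.ext fun x => ?_
      simp only [LinearMap.comp_apply, dSum, DirectSum.toModule_lof]
      rw [DirectSum.component.of, DirectSum.component.of]
      by_cases hk : k = k'
      · subst hk; simp
      · rw [dif_neg, dif_neg (Ne.symm hk), map_zero]
        intro he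
        apply hk
        simp only [Subtype.mk.injEq, Prod.mk.injEq] at he
        exact Subtype.ext (Prod.ext (by omega) he.2.symm)
    have := LinearMap.congr_fun e ((toSum C P n).hom z)
    simp only [LinearMap.comp_apply] at this
    rw [← this, hz', map_zero]
  have hpre : ∀ k : { k : ℤ × ℤ // k.1 + k.2 = n }, ∃ y : ⨁ k, Fam C P (n - 1) k,
      dSum P C (n - 1) n (by omega) y = DirectSum.lof R _ (Fam C P n) k
        (DirectSum.component R _ (Fam C P n) k ((toSum C P n).hom z)) := by
    rintro ⟨⟨p, q⟩, hk⟩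
    obtain ⟨p, rfl⟩ : ∃ p', p = p' + 1 := ⟨p - 1, by omega⟩
    obtain ⟨w, hw⟩ := (hex q p _).1 (hcomp ⟨(p + 1, q), hk⟩)
    refine ⟨DirectSum.lof R _ (Fam C P (n - 1)) ⟨(p, q), by dsimp at hk ⊢; omega⟩ w, ?_⟩
    simp only [dSum, DirectSum.toModule_lof, LinearMap.comp_apply]
    rw [hw]
  choose y hy using hpre
  obtain ⟨x, hx⟩ := (ModuleCat.epi_iff_surjective (sumIso C P (n - 1)).hom).1 inferInstance
    (∑ k ∈ DFinsupp.support ((toSum C P n).hom z), y k)
  refine ⟨x, (ModuleCat.mono_iff_injective (sumIso C P n).hom).1 inferInstance ?_⟩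
  have := congrArg (fun f => f.hom x) (d_toSum (L := C) hd (n - 1) n (by omega))
  simp only [ModuleCat.hom_comp, LinearMap.comp_apply, ModuleCat.hom_ofHom] at this
  refine this.trans ?_
  erw [hx]
  rw [map_sum]
  exact (Finset.sum_congr rfl fun k _ => hy k).trans (DirectSum.sum_support_of _)

section restrict

variable {A : Type u} [CommRing A] (φ : R →+* A)

lemma good_colimit_restrict (F : ℕ ⥤ CochainComplex (ModuleCat.{u} A) ℤ) {c : Cocone F} (hc : IsColimit c)
    (h : ∀ n, Good C (((ModuleCat.restrictScalars φ).mapHomologicalComplex (ComplexShape.up ℤ)).obj (F.obj n))) :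
    Good C (((ModuleCat.restrictScalars φ).mapHomologicalComplex (ComplexShape.up ℤ)).obj c.pt) := by
  have : PreservesFilteredColimitsOfSize.{0, 0} (forget (ModuleCat.{u} R)) :=
    preservesSmallestFilteredColimits_of_preservesFilteredColimits _
  let G := (ModuleCat.restrictScalars φ).mapHomologicalComplex (ComplexShape.up ℤ)
  haveI : PreservesColimitsOfSize.{0, 0} (ModuleCat.restrictScalars.{u} φ) :=
    (ModuleCat.restrictCoextendScalarsAdj φ).leftAdjoint_preservesColimits
  have hc' : IsColimit (G.mapCocone c) :=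
    HomologicalComplex.isColimitOfEval _ _ fun i => by
      have h1 := isColimitOfPreserves (HomologicalComplex.eval (ModuleCat.{u} A) (.up ℤ) i) hc
      have h2 := isColimitOfPreserves (ModuleCat.restrictScalars φ) h1
      exact h2
  have hG := good_colimit (C := C) ℕ (F ⋙ G) (c := G.mapCocone c) hc' (fun n => h n)
  exact hG

/-- The restriction of a K-projective complex is good as soon as the restrictions of free modules
are. -/
theorem good_restrict
    (hfree : ∀ (S : Type u) (p : ℤ), Function.Exact
      ((C.d p (p + 1)).hom.rTensor ((ModuleCat.restrictScalars φ).obj ((ModuleCat.free A).obj S)))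
      ((C.d (p + 1) (p + 1 + 1)).hom.rTensor ((ModuleCat.restrictScalars φ).obj ((ModuleCat.free A).obj S))))
    (X : CochainComplex (ModuleCat.{u} A) ℤ) [X.IsKProjective] :
    Good C (((ModuleCat.restrictScalars φ).mapHomologicalComplex (ComplexShape.up ℤ)).obj X) := by
  let G := (ModuleCat.restrictScalars φ).mapHomologicalComplex (ComplexShape.up ℤ)
  have hz : ∀ S : ℤ → Type u, Good C (G.obj (KProj.zeroCx fun i => (ModuleCat.free A).obj (S i))) :=
    fun S => good_of_d_eq_zero (P := G.obj (KProj.zeroCx fun i => (ModuleCat.free A).obj (S i)))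
      (fun i j => (ModuleCat.restrictScalars φ).map_zero _ _) fun q p => hfree (S q) p
  have hstage : ∀ n, Good C (G.obj (KProjRes.stage X n).P) := by
    intro n
    induction n with
    | zero =>
      exact Good.of_homotopyEquiv ((ModuleCat.restrictScalars φ).mapHomotopyEquiv
        (KFlat.fstEquiv (KProjRes.Q₀ X) (KProjRes.Q₁ X)).symm) (hz _)
    | succ n ih =>
      exact (good_mappingCone (G.map (KProjRes.stage X n).ψ) (hz _) ih).of_iso
        (CochainComplex.mappingCone.mapHomologicalComplexIso (KProjRes.stage X n).ψ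
          (ModuleCat.restrictScalars φ)).symm
  have hres : Good C (G.obj (KProjRes.res X)) :=
    good_colimit_restrict φ (Functor.ofSequence (KProjRes.trans X))
      (colimit.isColimit (Functor.ofSequence (KProjRes.trans X))) hstage
  obtain ⟨e, -⟩ := (CochainComplex.IsKProjective.quasiIso_iff (KProjRes.resπ X)).1 inferInstance
  exact hres.of_homotopyEquiv ((ModuleCat.restrictScalars φ).mapHomotopyEquiv e)

end restrict

end Groth.Agent.DRing.BCCmp
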