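import Groth.Agent.DRing.DerivedAdj
import Groth.Agent.DRing.DerivedNakayama

/-!
# The universal arrow to restriction of scalars at a K-projective complex
-/

universe w v₁ v₂ u u₁ u₂
attribute [local instance] HasDerivedCategory.standard
open CategoryTheory CategoryTheory.Limits DerivedCategory

namespace Groth.Agent.DRing.BCCmp

section Abs

variable {C : Type u₁} {D : Type u₂} [Category.{v₁} C] [Category.{v₂} D] {L : C ⥤ D} {G : D ⥤ C}

/-- An adjunction turns a universal arrow into an isomorphism. -/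
theorem isIso_symm_of_universal (adj : L ⊣ G) {X : C} {Z : D} (u : X ⟶ G.obj Z)
    (hu : ∀ Z', Function.Bijective fun g : Z ⟶ Z' => u ≫ G.map g) :
    IsIso ((adj.homEquiv X Z).symm u) := by
  have key : ∀ {Z'} (g : Z ⟶ Z'),
      adj.homEquiv X Z' ((adj.homEquiv X Z).symm u ≫ g) = u ≫ G.map g := fun g => by
    rw [Adjunction.homEquiv_naturality_right, Equiv.apply_symm_apply]
  obtain ⟨g, hg⟩ := (hu (L.obj X)).2 (adj.homEquiv X (L.obj X) (𝟙 _))
  have h1 : (adj.homEquiv X Z).symm u ≫ g = 𝟙 _ :=
    (adj.homEquiv _ _).injective ((key g).trans hg)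
  refine ⟨g, h1, (hu Z).1 ?_⟩
  refine (key _).symm.trans (Eq.trans ?_ (key (𝟙 Z)))
  rw [← Category.assoc, h1, Category.id_comp, Category.comp_id]

end Abs

variable {A B : Type u} [CommRing A] [CommRing B] (f : A →+* B)

/-- Restriction of scalars commutes with localisation. -/
noncomputable abbrev fac (X : DRing.Cx B) :
    (DRing.restrictD f).obj (DRing.toD X) ≅ DRing.toD ((DRing.restrictCx f).obj X) :=
  (ModuleCat.restrictScalars.{u} f).mapDerivedCategoryFactors.app X

lemma fac_natural {X Y : DRing.Cx B} (v : X ⟶ Y) :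
    (fac f X).inv ≫ (DRing.restrictD f).map (Q.map v) =
      Q.map ((DRing.restrictCx f).map v) ≫ (fac f Y).inv :=
  ((ModuleCat.restrictScalars.{u} f).mapDerivedCategoryFactors.inv.naturality v).symm

@[reassoc]
lemma fac_hom_natural {X Y : DRing.Cx B} (v : X ⟶ Y) :
    (DRing.restrictD f).map (Q.map v) ≫ (fac f Y).hom =
      (fac f X).hom ≫ Q.map ((DRing.restrictCx f).map v) :=
  (ModuleCat.restrictScalars.{u} f).mapDerivedCategoryFactors.hom.naturality v

/-- `x ↦ 1 ⊗ x`. -/
noncomputable def unitCx (P : DRing.Cx A) :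
    P ⟶ (DRing.restrictCx f).obj ((LTensor.extCx f).obj P) where
  f n := (ModuleCat.extendRestrictScalarsAdj.{u} f).unit.app (P.X n)
  comm' i j _ := ((ModuleCat.extendRestrictScalarsAdj.{u} f).unit.naturality (P.d i j)).symm

/-- `x ↦ 1 ⊗ x` in `D(A)`. -/
noncomputable def unitD (P : DRing.Cx A) :
    DRing.toD P ⟶ (DRing.restrictD f).obj (DRing.toD ((LTensor.extCx f).obj P)) :=
  Q.map (unitCx f P) ≫ (fac f _).inv

lemma unitD_comp (P : DRing.Cx A) {L : DRing.Cx B} (v : (LTensor.extCx f).obj P ⟶ L) :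
    unitD f P ≫ (DRing.restrictD f).map (Q.map v) =
      Q.map (unitCx f P ≫ (DRing.restrictCx f).map v) ≫ (fac f L).inv := by
  rw [unitD, Category.assoc, fac_natural, ← Category.assoc, ← Functor.map_comp]

/-- The arrow `P ⟶ (P ⊗ B)|_A` is universal. -/
theorem bijective_unitD (P : DRing.Cx A) [P.IsKProjective] (Z : Dual.D B) :
    Function.Bijective fun g : DRing.toD ((LTensor.extCx f).obj P) ⟶ Z =>
      unitD f P ≫ (DRing.restrictD f).map g := by
  have := DerComplete.isKProjective_extCx f P
  let adj := DerivedAdj.mapHomotopyCategoryAdj (ModuleCat.extendRestrictScalarsAdj.{u} f)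
  let qA := HomotopyCategory.quotient (ModuleCat.{u} A) (ComplexShape.up ℤ)
  let qB := HomotopyCategory.quotient (ModuleCat.{u} B) (ComplexShape.up ℤ)
  have key : ∀ {L : DRing.Cx B} (v : (LTensor.extCx f).obj P ⟶ L),
      adj.homEquiv (qA.obj P) (qB.obj L) (qB.map v) =
        qA.map (unitCx f P ≫ (DRing.restrictCx f).map v) := fun v => by
    rw [Functor.map_comp]
    exact (adj.homEquiv_unit (qA.obj P) _ (qB.map v)).trans rfl
  have hL : ∀ L : DRing.Cx B,
      Function.Bijective fun g : DRing.toD ((LTensor.extCx f).obj P) ⟶ DRing.toD L =>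
        unitD f P ≫ (DRing.restrictD f).map g := by
    intro L
    constructor
    · intro g g' hg
      obtain ⟨v, rfl⟩ := DBasic.exists_Q_map_eq g
      obtain ⟨v', rfl⟩ := DBasic.exists_Q_map_eq g'
      simp only [unitD_comp, cancel_mono] at hg
      obtain ⟨H⟩ := (DBasic.Q_map_eq_iff _ _).1 hg
      refine DerivedCategory.Q_map_eq_of_homotopy (ModuleCat.{u} B) (HomotopyCategory.homotopyOfEq v v'
        ((adj.homEquiv (qA.obj P) (qB.obj L)).injective ?_))
      exact (key v).trans ((HomotopyCategory.eq_of_homotopy _ _ H).trans (key v').symm)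
    · intro φ
      obtain ⟨w, hw⟩ := DBasic.exists_Q_map_eq (φ ≫ (fac f L).hom)
      obtain ⟨v, hv⟩ := qB.map_surjective
        (show qB.obj ((LTensor.extCx f).obj P) ⟶ qB.obj L from
          (adj.homEquiv (qA.obj P) (qB.obj L)).symm (qA.map w))
      refine ⟨Q.map v, ?_⟩
      have h : qA.map (unitCx f P ≫ (DRing.restrictCx f).map v) = qA.map w :=
        (key v).symm.trans ((congrArg (adj.homEquiv (qA.obj P) (qB.obj L)) hv).trans
          (Equiv.apply_symm_apply _ _))
      simp only [unitD_comp]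
      rw [DerivedCategory.Q_map_eq_of_homotopy (ModuleCat.{u} A) (HomotopyCategory.homotopyOfEq _ _ h),
        hw, Category.assoc, Iso.hom_inv_id, Category.comp_id]
  let e := Q.objObjPreimageIso Z
  constructor
  · intro g g' hg
    refine (cancel_mono e.inv).1 ((hL _).1 ?_)
    change unitD f P ≫ _ = unitD f P ≫ _
    rw [Functor.map_comp, Functor.map_comp, ← Category.assoc, ← Category.assoc]
    exact congrArg (· ≫ (DRing.restrictD f).map e.inv) hg
  · intro φ
    obtain ⟨g, hg⟩ := (hL _).2 (φ ≫ (DRing.restrictD f).map e.inv)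
    refine ⟨g ≫ e.hom, ?_⟩
    change unitD f P ≫ _ = φ
    rw [Functor.map_comp, ← Category.assoc, show unitD f P ≫ (DRing.restrictD f).map g = _ from hg,
      Category.assoc, ← Functor.map_comp, Iso.inv_hom_id, CategoryTheory.Functor.map_id, Category.comp_id]

end Groth.Agent.DRing.BCCmp
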